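import Mathlib
import Groth.Prelude.Def_ParBun2

/-!
# Generalised parabolic bundles: comparing weights close to one (arithmetic part)
-/

set_option autoImplicit false
universe u
open CategoryTheory CategoryTheory.Limits AlgebraicGeometry

namespace Groth.Agent.H5.ParSh

/-- the arithmetic behind `1`-stable ⇒ `α`-stable. -/
theorem arith_stable (a b : ℤ) (f e n r' d : ℕ) (α : ℝ) (hα1 : α < 1) (hn : 2 ≤ n)
    (hd : 0 < d) (hr' : 0 < r') (hr'n : r' < n) (he : e ≤ n * d)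
    (hα : 1 - 1 / ((d : ℝ) * (n : ℝ) * ((n : ℝ) - 1)) < α)
    (h : ((a : ℝ) + 1 * (f : ℝ)) * (n : ℝ) < ((b : ℝ) + 1 * (e : ℝ)) * (r' : ℝ)) :
    ((a : ℝ) + α * (f : ℝ)) * (n : ℝ) < ((b : ℝ) + α * (e : ℝ)) * (r' : ℝ) := by
  have hZ : (a + (f : ℤ)) * (n : ℤ) < (b + (e : ℤ)) * (r' : ℤ) := by
    have : (((a + (f : ℤ)) * (n : ℤ) : ℤ) : ℝ) < (((b + (e : ℤ)) * (r' : ℤ) : ℤ) : ℝ) := by
      push_cast
      linarith
    exact_mod_cast this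
  have hZ' : ((a : ℝ) + (f : ℝ)) * (n : ℝ) + 1 ≤ ((b : ℝ) + (e : ℝ)) * (r' : ℝ) := by
    have : (a + (f : ℤ)) * (n : ℤ) + 1 ≤ (b + (e : ℤ)) * (r' : ℤ) := hZ
    exact_mod_cast this
  have hnR : (2 : ℝ) ≤ (n : ℝ) := by exact_mod_cast hn
  have hdR : (1 : ℝ) ≤ (d : ℝ) := by exact_mod_cast hd
  have hK : 0 < (d : ℝ) * (n : ℝ) * ((n : ℝ) - 1) := by
    have : 0 < (n : ℝ) - 1 := by linarith
    positivity
  set δ := 1 - α with hδ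
  have hδ0 : 0 < δ := by linarith
  have hδK : δ * ((d : ℝ) * (n : ℝ) * ((n : ℝ) - 1)) < 1 := by
    have : δ < 1 / ((d : ℝ) * (n : ℝ) * ((n : ℝ) - 1)) := by linarith
    rwa [lt_div_iff₀ hK] at this
  have heR : (e : ℝ) ≤ (n : ℝ) * (d : ℝ) := by exact_mod_cast he
  have hr'R : (r' : ℝ) ≤ (n : ℝ) - 1 := by
    have : r' + 1 ≤ n := hr'n
    have : ((r' + 1 : ℕ) : ℝ) ≤ (n : ℝ) := by exact_mod_cast this
    push_cast at this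
    linarith
  have hr'0 : (0 : ℝ) ≤ (r' : ℝ) := Nat.cast_nonneg _
  have he0 : (0 : ℝ) ≤ (e : ℝ) := Nat.cast_nonneg _
  have hf0 : (0 : ℝ) ≤ (f : ℝ) := Nat.cast_nonneg _
  have hn0 : (0 : ℝ) ≤ (n : ℝ) := Nat.cast_nonneg _
  have h1 : (e : ℝ) * (r' : ℝ) ≤ (d : ℝ) * (n : ℝ) * ((n : ℝ) - 1) := by
    calc (e : ℝ) * (r' : ℝ) ≤ ((n : ℝ) * (d : ℝ)) * ((n : ℝ) - 1) :=
          mul_le_mul heR hr'R hr'0 (by positivity)
      _ = (d : ℝ) * (n : ℝ) * ((n : ℝ) - 1) := by ring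
  have h2 : δ * ((e : ℝ) * (r' : ℝ)) < 1 :=
    lt_of_le_of_lt (mul_le_mul_of_nonneg_left h1 hδ0.le) hδK
  have h3 : 0 ≤ δ * ((f : ℝ) * (n : ℝ)) := by positivity
  have hα' : α = 1 - δ := by rw [hδ]; ring
  rw [hα']
  nlinarith

end Groth.Agent.H5.ParSh
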