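import Mathlib
import Groth.Prelude.Def_ParBun2
import Groth.Agent.Lib.Helper5.ParSh.A
import Groth.Agent.Lib.Helper5.Curve4.VB1

/-!
# Generalised parabolic bundles: weights close to one (S18568, S18569)
-/

set_option autoImplicit false
universe u
open CategoryTheory CategoryTheory.Limits AlgebraicGeometry

namespace Groth.Agent.H5.ParSh

/-- the arithmetic behind `α`-semistable ⇒ `1`-semistable. -/
theorem arith_semistable (a b : ℤ) (f e n r' d : ℕ) (α : ℝ) (hα1 : α < 1) (hn : 2 ≤ n)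
    (hd : 0 < d) (hr' : 0 < r') (hr'n : r' ≤ n) (hf : f ≤ r' * d)
    (hα : 1 - 1 / ((d : ℝ) * (n : ℝ) * ((n : ℝ) - 1)) < α)
    (h : ((a : ℝ) + α * (f : ℝ)) * (n : ℝ) ≤ ((b : ℝ) + α * (e : ℝ)) * (r' : ℝ)) :
    ((a : ℝ) + 1 * (f : ℝ)) * (n : ℝ) ≤ ((b : ℝ) + 1 * (e : ℝ)) * (r' : ℝ) := by
  have hnR : (2 : ℝ) ≤ (n : ℝ) := by exact_mod_cast hn
  have hdR : (1 : ℝ) ≤ (d : ℝ) := by exact_mod_cast hd
  have hK : 0 < (d : ℝ) * (n : ℝ) * ((n : ℝ) - 1) := by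
    have : 0 < (n : ℝ) - 1 := by linarith
    positivity
  set δ := 1 - α with hδ
  have hδ0 : 0 < δ := by linarith
  have hδK : δ * ((d : ℝ) * (n : ℝ) * ((n : ℝ) - 1)) < 1 := by
    have : δ < 1 / ((d : ℝ) * (n : ℝ) * ((n : ℝ) - 1)) := by linarith
    rwa [lt_div_iff₀ hK] at this
  have hfR : (f : ℝ) ≤ (r' : ℝ) * (d : ℝ) := by exact_mod_cast hf
  have hr'0 : (0 : ℝ) ≤ (r' : ℝ) := Nat.cast_nonneg _
  have he0 : (0 : ℝ) ≤ (e : ℝ) := Nat.cast_nonneg _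
  have hf0 : (0 : ℝ) ≤ (f : ℝ) := Nat.cast_nonneg _
  have hn0 : (0 : ℝ) < (n : ℝ) := by linarith
  have hα' : α = 1 - δ := by rw [hδ]; ring
  rw [hα'] at h
  rcases lt_or_eq_of_le hr'n with hlt | heq
  · -- `r' < n`
    have hr'R : (r' : ℝ) ≤ (n : ℝ) - 1 := by
      have : r' + 1 ≤ n := hlt
      have : ((r' + 1 : ℕ) : ℝ) ≤ (n : ℝ) := by exact_mod_cast this
      push_cast at this
      linarith
    have h1 : (f : ℝ) * (n : ℝ) ≤ (d : ℝ) * (n : ℝ) * ((n : ℝ) - 1) := by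
      calc (f : ℝ) * (n : ℝ) ≤ ((r' : ℝ) * (d : ℝ)) * (n : ℝ) :=
            mul_le_mul_of_nonneg_right hfR hn0.le
        _ ≤ (((n : ℝ) - 1) * (d : ℝ)) * (n : ℝ) := by
            apply mul_le_mul_of_nonneg_right _ hn0.le
            exact mul_le_mul_of_nonneg_right hr'R (by positivity)
        _ = (d : ℝ) * (n : ℝ) * ((n : ℝ) - 1) := by ring
    have h2 : δ * ((f : ℝ) * (n : ℝ)) < 1 :=
      lt_of_le_of_lt (mul_le_mul_of_nonneg_left h1 hδ0.le) hδK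
    have h3 : 0 ≤ δ * ((e : ℝ) * (r' : ℝ)) := by positivity
    have hX : ((a : ℝ) + (f : ℝ)) * (n : ℝ) - ((b : ℝ) + (e : ℝ)) * (r' : ℝ) < 1 := by nlinarith
    have hZ : (a + (f : ℤ)) * (n : ℤ) - (b + (e : ℤ)) * (r' : ℤ) < 1 := by
      have : (((a + (f : ℤ)) * (n : ℤ) - (b + (e : ℤ)) * (r' : ℤ) : ℤ) : ℝ) < ((1 : ℤ) : ℝ) := by
        push_cast
        linarith
      exact_mod_cast this
    have hZ' : (a + (f : ℤ)) * (n : ℤ) ≤ (b + (e : ℤ)) * (r' : ℤ) := by omega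
    have : (((a + (f : ℤ)) * (n : ℤ) : ℤ) : ℝ) ≤ (((b + (e : ℤ)) * (r' : ℤ) : ℤ) : ℝ) := by
      exact_mod_cast hZ'
    push_cast at this
    linarith
  · -- `r' = n`
    subst heq
    have h' : (a : ℝ) + (1 - δ) * (f : ℝ) ≤ (b : ℝ) + (1 - δ) * (e : ℝ) :=
      le_of_mul_le_mul_right h hn0
    have h1 : δ * (f : ℝ) < 1 := by
      have h4 : δ * (f : ℝ) ≤ δ * ((r' : ℝ) * (d : ℝ)) := mul_le_mul_of_nonneg_left hfR hδ0.le
      have h5 : (r' : ℝ) * (d : ℝ) ≤ (d : ℝ) * (r' : ℝ) * ((r' : ℝ) - 1) := by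
        have : (1 : ℝ) ≤ (r' : ℝ) - 1 := by linarith
        nlinarith
      have h6 : δ * ((r' : ℝ) * (d : ℝ)) ≤ δ * ((d : ℝ) * (r' : ℝ) * ((r' : ℝ) - 1)) :=
        mul_le_mul_of_nonneg_left h5 hδ0.le
      linarith
    have h3 : 0 ≤ δ * (e : ℝ) := by positivity
    have hX : ((a : ℝ) + (f : ℝ)) - ((b : ℝ) + (e : ℝ)) < 1 := by nlinarith
    have hZ : (a + (f : ℤ)) - (b + (e : ℤ)) < 1 := by
      have : (((a + (f : ℤ)) - (b + (e : ℤ)) : ℤ) : ℝ) < ((1 : ℤ) : ℝ) := by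
        push_cast
        linarith
      exact_mod_cast this
    have hZ' : (a + (f : ℤ)) ≤ (b + (e : ℤ)) := by omega
    have : (((a + (f : ℤ)) : ℤ) : ℝ) ≤ (((b + (e : ℤ)) : ℤ) : ℝ) := by exact_mod_cast hZ'
    push_cast at this
    have : ((a : ℝ) + (f : ℝ)) * (r' : ℝ) ≤ ((b : ℝ) + (e : ℝ)) * (r' : ℝ) :=
      mul_le_mul_of_nonneg_right this hn0.le
    linarith

variable (k : Type u) [Field k] (X : Scheme.{u}) [X.Over (Spec (CommRingCat.of k))]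

/-- `1`-stable implies `α`-stable for `α` close to one. -/
theorem stable_of_one_stable (I : X.IdealSheafData) (d : ℕ) (hd : 0 < d)
    (hdegD : ∀ (G : X.Modules) (r : ℕ), FlatMod.IsFinLocFreeOfRank r G →
      Module.finrank k (ParSh.fibD X I G) = r * d)
    {E : X.Modules} (n : ℕ) (hn : 2 ≤ n) (hE : FlatMod.IsFinLocFreeOfRank n E)
    (F₁ : Submodule k (ParSh.fibD X I E))
    (α : ℝ) (hα1 : α < 1) (hα : 1 - 1 / ((d : ℝ) * (n : ℝ) * ((n : ℝ) - 1)) < α)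
    (hst : ParSh.IsGPStable k X I 1 F₁ n) :
    ParSh.IsGPStable k X I α F₁ n := by
  intro G r' i hi hr' hr'n hG
  have h := hst G r' i hi hr' hr'n hG
  unfold ParSh.gpDeg ParSh.gpWt at h ⊢
  haveI hfin : Module.Finite k (ParSh.fibD X I E) :=
    Module.finite_of_finrank_pos (by rw [hdegD E n hE]; positivity)
  have he : Module.finrank k F₁ ≤ n * d := (hdegD E n hE) ▸ Submodule.finrank_le F₁
  exact arith_stable _ _ _ _ n r' d α hα1 hn hd hr' hr'n he hα h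

/-- `α`-semistable implies `1`-semistable for `α` close to one. -/
theorem one_semistable_of_semistable [Nonempty X] (I : X.IdealSheafData) (d : ℕ) (hd : 0 < d)
    (hdegD : ∀ (G : X.Modules) (r : ℕ), FlatMod.IsFinLocFreeOfRank r G →
      Module.finrank k (ParSh.fibD X I G) = r * d)
    {E : X.Modules} (n : ℕ) (hn : 2 ≤ n) (hE : FlatMod.IsFinLocFreeOfRank n E)
    (F₁ : Submodule k (ParSh.fibD X I E))
    (α : ℝ) (hα1 : α < 1) (hα : 1 - 1 / ((d : ℝ) * (n : ℝ) * ((n : ℝ) - 1)) < α)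
    (hss : ParSh.IsGPSemistable k X I α F₁ n) :
    ParSh.IsGPSemistable k X I 1 F₁ n := by
  intro G r' i hi hr' hG
  have h := hss G r' i hi hr' hG
  unfold ParSh.gpDeg ParSh.gpWt at h ⊢
  haveI : Mono i := hi
  have hr'n : r' ≤ n := Groth.Agent.H5.Curve4.rank_le_of_mono X i r' n hG hE
  haveI hfin : Module.Finite k (ParSh.fibD X I G) :=
    Module.finite_of_finrank_pos (by rw [hdegD G r' hG]; positivity)
  have hf : Module.finrank k (ParSh.gpInduced k X I i F₁) ≤ r' * d :=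
    (hdegD G r' hG) ▸ Submodule.finrank_le _
  exact arith_semistable _ _ _ _ n r' d α hα1 hn hd hr' hr'n hf hα h

end Groth.Agent.H5.ParSh
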