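import Mathlib
import Groth.Agent.Lib.Helper5.Curve4.Sat2
import Groth.Agent.Lib.Helper5.Curve2.H
import Groth.Agent.Lib.Lead.Curve.Torsion
import Groth.Agent.Lib.Lead.Curve.Euler
import Groth.Agent.Lib.Lead.QC.SuppSES
import Groth.Agent.Lib.Lead.QC.SerreSupp

/-!
# Coherent torsion modules on a proper integral curve: `H⁰` is exact
-/

set_option autoImplicit false
set_option linter.style.haveILetI false
universe u
open CategoryTheory CategoryTheory.Limits AlgebraicGeometry TopologicalSpace Opposite

namespace Groth.Agent.H5.ParSh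

open Groth.Agent.LD Groth.Agent.LD.QC Groth.Agent.H5.Curve4

section Tors

variable {X : Scheme.{u}} [IsIntegral X]

lemma isTors_left {S : ShortComplex X.Modules} (hS : S.ShortExact) (h : IsTors S.X₂) :
    IsTors S.X₁ := by
  have hs := support_of_shortExact hS
  unfold IsTors at h ⊢
  by_contra hcon
  have hmem : genericPoint X ∈ CohB1.support S.X₂ := by
    rw [hs]; exact Or.inl hcon
  exact hmem h

lemma isTors_right {S : ShortComplex X.Modules} (hS : S.ShortExact) (h : IsTors S.X₂) :
    IsTors S.X₃ := by
  have hs := support_of_shortExact hS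
  unfold IsTors at h ⊢
  by_contra hcon
  have hmem : genericPoint X ∈ CohB1.support S.X₂ := by
    rw [hs]; exact Or.inr hcon
  exact hmem h

/-- the short exact sequence `0 → ker φ → A → coim φ → 0`. -/
lemma shortExact_kernel_coimage {A B : X.Modules} (φ : A ⟶ B) :
    (ShortComplex.mk (kernel.ι φ) (Abelian.coimage.π φ) (cokernel.condition _)).ShortExact :=
  { exact := ShortComplex.exact_cokernel (kernel.ι φ)
    mono_f := inferInstanceAs (Mono (kernel.ι φ))
    epi_g := inferInstanceAs (Epi (cokernel.π (kernel.ι φ))) }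

/-- the short exact sequence `0 → coim φ → B → coker φ → 0`. -/
lemma shortExact_coimage_cokernel {A B : X.Modules} (φ : A ⟶ B) :
    (ShortComplex.mk (Abelian.factorThruCoimage φ) (cokernel.π φ) (by
      rw [← cancel_epi (Abelian.coimage.π φ), ← Category.assoc, Abelian.coimage.fac,
        cokernel.condition, comp_zero])).ShortExact :=
  { exact := by
      let S₀ : ShortComplex X.Modules := ShortComplex.mk φ (cokernel.π φ) (cokernel.condition φ)
      let S₁ : ShortComplex X.Modules := ShortComplex.mk (Abelian.factorThruCoimage φ)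
        (cokernel.π φ) (by
          rw [← cancel_epi (Abelian.coimage.π φ), ← Category.assoc, Abelian.coimage.fac,
            cokernel.condition, comp_zero])
      have h0 : S₀.Exact := ShortComplex.exact_cokernel φ
      let ψ : S₀ ⟶ S₁ :=
        { τ₁ := Abelian.coimage.π φ
          τ₂ := 𝟙 _
          τ₃ := 𝟙 _
          comm₁₂ := by
            change Abelian.coimage.π φ ≫ Abelian.factorThruCoimage φ = φ ≫ 𝟙 _
            rw [Category.comp_id, Abelian.coimage.fac]
          comm₂₃ := by
            change 𝟙 _ ≫ cokernel.π φ = cokernel.π φ ≫ 𝟙 _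
            rw [Category.comp_id, Category.id_comp] }
      haveI : Epi ψ.τ₁ := inferInstanceAs (Epi (Abelian.coimage.π φ))
      haveI : IsIso ψ.τ₂ := inferInstanceAs (IsIso (𝟙 _))
      haveI : Mono ψ.τ₃ := inferInstanceAs (Mono (𝟙 _))
      exact (ShortComplex.exact_iff_of_epi_of_isIso_of_mono ψ).mp h0
    mono_f := inferInstanceAs (Mono (Abelian.factorThruCoimage φ))
    epi_g := inferInstanceAs (Epi (cokernel.π φ)) }

end Tors

variable (k : Type u) [Field k] (X : Scheme.{u}) [X.Over (Spec (CommRingCat.of k))]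
  [IsProper (X ↘ Spec (CommRingCat.of k))] [IsIntegral X]

/-- `χ = h⁰` for coherent torsion modules. -/
lemma euler_of_isTors (hdim : topologicalKrullDim X ≤ 1) {T : X.Modules} (hT : Coh.IsCoh T)
    (ht : IsTors T) : Curv2.euler k X T = (Module.finrank k (Coh.HH X T 0) : ℤ) :=
  Curve.euler_of_support_closed_points k X T hT (fun y hy => isClosed_of_isTors hdim ht y hy)

/-- for a morphism `φ : A ⟶ B` of coherent torsion modules,
`dim ker H⁰(φ) + h⁰(B) = h⁰(A) + h⁰(coker φ)`. -/
theorem finrank_ker_H0 (hdim : topologicalKrullDim X ≤ 1) {A B : X.Modules}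
    (hA : Coh.IsCoh A) (hB : Coh.IsCoh B) (htA : IsTors A) (htB : IsTors B) (φ : A ⟶ B) :
    (Module.finrank k (LinearMap.ker (CL.HHmap k φ 0)) : ℤ) +
        Module.finrank k (Coh.HH X B 0) =
      Module.finrank k (Coh.HH X A 0) + Module.finrank k (Coh.HH X (cokernel φ) 0) := by
  haveI := Curve.isLocallyNoetherian k X
  have hS1 := shortExact_kernel_coimage φ
  have hS2 := shortExact_coimage_cokernel φ
  have hKc : Coh.IsCoh (kernel φ) := isCoh_kernel φ hA hB
  have hCc : Coh.IsCoh (cokernel φ) := isCoh_cokernel φ hA hB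
  have hIc : Coh.IsCoh (Abelian.coimage φ) := isCoh_cokernel (kernel.ι φ) hKc hA
  have hKt : IsTors (kernel φ) := isTors_left hS1 htA
  have hIt : IsTors (Abelian.coimage φ) := isTors_right hS1 htA
  have hCt : IsTors (cokernel φ) := isTors_right hS2 htB
  have e1 := Curve.euler_add k X _ hS1 hKc hA hIc
  have e2 := Curve.euler_add k X _ hS2 hIc hB hCc
  simp only [] at e1 e2
  rw [euler_of_isTors k X hdim hA htA, euler_of_isTors k X hdim hKc hKt,
    euler_of_isTors k X hdim hIc hIt] at e1
  rw [euler_of_isTors k X hdim hB htB, euler_of_isTors k X hdim hCc hCt,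
    euler_of_isTors k X hdim hIc hIt] at e2
  -- the kernel of `H⁰(φ)` is the image of `H⁰(ker φ)`
  have hker : LinearMap.ker (CL.HHmap k φ 0) = LinearMap.range (CL.HHmap k (kernel.ι φ) 0) := by
    apply le_antisymm
    · intro x hx
      rw [LinearMap.mem_ker] at hx
      have hfac : φ = Abelian.coimage.π φ ≫ Abelian.factorThruCoimage φ :=
        (Abelian.coimage.fac φ).symm
      rw [hfac, CL.HHmap_comp] at hx
      have h0 : CL.HHmap k (Abelian.coimage.π φ) 0 x = 0 := by
        apply Groth.Agent.H5.Curve2.injective_HHmap_zero k (Abelian.factorThruCoimage φ)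
        rw [map_zero]
        exact hx
      obtain ⟨y, hy⟩ := CL.exact₂ hS1 k 0 x h0
      exact ⟨y, hy⟩
    · rintro _ ⟨y, rfl⟩
      rw [LinearMap.mem_ker, ← LinearMap.comp_apply, ← CL.HHmap_comp, kernel.condition]
      have : CL.HHmap k (0 : kernel φ ⟶ B) 0 = 0 := by
        have h := CL.HHmap_add k (0 : kernel φ ⟶ B) 0 0
        rw [add_zero] at h
        exact left_eq_add.mp h
      rw [this]
      rfl
  have hfr : Module.finrank k (LinearMap.ker (CL.HHmap k φ 0)) =
      Module.finrank k (Coh.HH X (kernel φ) 0) := by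
    rw [hker]
    exact LinearMap.finrank_range_of_inj (Groth.Agent.H5.Curve2.injective_HHmap_zero k (kernel.ι φ))
  rw [hfr]
  linarith

/-- an epimorphism of coherent torsion modules does not increase `h⁰`. -/
theorem finrank_H0_le_of_epi (hdim : topologicalKrullDim X ≤ 1) {A B : X.Modules}
    (hA : Coh.IsCoh A) (hB : Coh.IsCoh B) (htA : IsTors A) (p : A ⟶ B) [Epi p] :
    Module.finrank k (Coh.HH X B 0) ≤ Module.finrank k (Coh.HH X A 0) := by
  haveI := Curve.isLocallyNoetherian k X
  let S : ShortComplex X.Modules := ShortComplex.mk (kernel.ι p) p (kernel.condition p)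
  have hS : S.ShortExact :=
    { exact := ShortComplex.exact_kernel p
      mono_f := inferInstanceAs (Mono (kernel.ι p))
      epi_g := inferInstanceAs (Epi p) }
  have hKc : Coh.IsCoh (kernel p) := isCoh_kernel p hA hB
  have hKt : IsTors (kernel p) := isTors_left hS htA
  have hBt : IsTors B := isTors_right hS htA
  have e1 := Curve.euler_add k X _ hS hKc hA hB
  simp only [S] at e1
  rw [euler_of_isTors k X hdim hA htA, euler_of_isTors k X hdim hKc hKt,
    euler_of_isTors k X hdim hB hBt] at e1
  have : (Module.finrank k (Coh.HH X B 0) : ℤ) ≤ Module.finrank k (Coh.HH X A 0) := by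
    have h0 : (0 : ℤ) ≤ Module.finrank k (Coh.HH X (kernel p) 0) := Int.natCast_nonneg _
    linarith
  exact_mod_cast this

end Groth.Agent.H5.ParSh
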