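import Mathlib
import Groth.Prelude.Def_ParBun2
import Groth.Agent.Lib.Helper5.ParSh.C
import Groth.Agent.Lib.Helper5.GG.SuppTens
import Groth.Agent.Lib.Helper5.IntN.Cartier
import Groth.Agent.Lib.Helper5.DegC.TensorDeg
import Groth.Agent.Lib.Helper5.Curve2.L
import Groth.Agent.Lib.Lead.QC.QuotSupp
import Groth.Agent.Lib.Lead.QC.IdealMod
import Groth.Agent.Lib.Lead.QC.FiniteFree
import Groth.Agent.Lib.Lead.QC.TwistExt
import Groth.Agent.Lib.Lead.QC.ProjFormulaLF
import Groth.Agent.Lib.Lead.RS.StalkFF
import Groth.Agent.Lib.Helper5.SD.Genus1Pic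

/-!
# Restriction to an effective Cartier divisor on a curve: `E ↦ E ⊗ O_D`
-/

set_option autoImplicit false
set_option linter.style.haveILetI false
universe u
open CategoryTheory CategoryTheory.Limits AlgebraicGeometry TopologicalSpace Opposite

namespace Groth.Agent.H5.ParSh

open Groth.Agent.LD Groth.Agent.LD.QC Groth.Agent.H5.Curve4 Groth.Agent.H5.IntN
  Groth.Agent.H5.DegC

variable (k : Type u) [Field k] (X : Scheme.{u}) [X.Over (Spec (CommRingCat.of k))]
  [IsProper (X ↘ Spec (CommRingCat.of k))] [IsIntegral X]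

section

variable {X}

/-- the generic point does not lie on an effective Cartier divisor of a curve. -/
lemma isTors_quotMod (hdim : topologicalKrullDim X = 1) (I : X.IdealSheafData)
    (hD : BlowUp.IsEffCartierIdeal I) : IsTors (ClSub.quotMod I) := by
  unfold IsTors
  by_contra hcon
  have hmem : genericPoint X ∈ CohB1.support (ClSub.quotMod I) := hcon
  rw [support_quotMod] at hmem
  have hcl := isClosed_singleton_of_mem_support hdim.le I hD _ hmem
  exact Groth.Agent.H5.SD.ne_genericPoint_of_isClosed X hdim _ hcl rfl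

lemma isTors_resD (hdim : topologicalKrullDim X = 1) (I : X.IdealSheafData)
    (hD : BlowUp.IsEffCartierIdeal I) (M : X.Modules) [M.IsQuasicoherent] :
    IsTors (ParSh.resD I M) := by
  unfold IsTors
  by_contra hcon
  haveI : (ClSub.quotMod I).IsQuasicoherent := (isCoh_quotMod I).1
  exact Groth.Agent.H5.GG.support_tensorMod_subset_right M (ClSub.quotMod I) _ hcon
    (isTors_quotMod hdim I hD)

lemma isCoh_resD (I : X.IdealSheafData) {M : X.Modules} (hM : Coh.IsCoh M) :
    Coh.IsCoh (ParSh.resD I M) :=
  isCoh_tensorMod hM (isCoh_quotMod I)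

/-- `0 → M ⊗ I → M ⊗ O → M ⊗ O_D → 0` for `M` finite locally free. -/
theorem shortExact_LT_idealMod (M : X.Modules) (hM : FlatMod.IsFinLocFree M)
    (I : X.IdealSheafData) :
    ((ShortComplex.mk (ClSub.idealModι I) (ClSub.toSubscheme I)
      (kernel.condition (ClSub.toSubscheme I))).map (LT M)).ShortExact := by
  have hS := shortExact_idealMod I
  exact
    { exact := hS.exact.map_of_epi_of_preservesCokernel (LT M) hS.epi_g inferInstance
      mono_f := by
        change Mono ((LT M).map (ClSub.idealModι I))
        rw [KoszTw.tensorBi_obj_map]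
        haveI : Mono (ClSub.idealModι I) := hS.mono_f
        exact mono_tensorMap_left_of_isFinLocFree (ClSub.idealModι I) M hM
      epi_g := by
        haveI := hS.epi_g
        exact (LT M).map_epi _ }

end

/-- the degree of the ideal of an effective Cartier divisor is `-h⁰(O_D)`. -/
theorem deg_idealMod (hdim : topologicalKrullDim X = 1) (I : X.IdealSheafData)
    (hD : BlowUp.IsEffCartierIdeal I) :
    Curv2.deg k X (ClSub.idealMod I) 1 = - (Module.finrank k (Coh.HH X (ClSub.quotMod I) 0) : ℤ) := by
  haveI := Curve.isLocallyNoetherian k X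
  have hS := shortExact_idealMod I
  have hIinv : PicF.IsInvertible (ClSub.idealMod I) := (isInvertible_idealMod_iff I).mpr hD
  have hIc : Coh.IsCoh (ClSub.idealMod I) := Curve.isCoh_of_rank ((isInvertible_iff _).mp hIinv)
  have hOc : Coh.IsCoh (unitMod X) :=
    Curve.isCoh_of_rank ((isInvertible_iff _).mp (isInvertible_unit X))
  have e := Curve.euler_add k X _ hS hIc hOc (isCoh_quotMod I)
  simp only [] at e
  rw [euler_of_isTors k X hdim.le (isCoh_quotMod I) (isTors_quotMod hdim I hD)] at e
  unfold Curv2.deg
  have : Curv2.euler k X (Coh.structureModule X) = Curv2.euler k X (unitMod X) := rfl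
  rw [this, e]
  push_cast
  ring

/-- `h⁰(M ⊗ O_D) = n · h⁰(O_D)` for `M` finite locally free of rank `n`. -/
theorem finrank_H0_resD (hdim : topologicalKrullDim X = 1) (I : X.IdealSheafData)
    (hD : BlowUp.IsEffCartierIdeal I) {M : X.Modules} (n : ℕ)
    (hM : FlatMod.IsFinLocFreeOfRank n M) :
    Module.finrank k (Coh.HH X (ParSh.resD I M) 0) =
      n * Module.finrank k (Coh.HH X (ClSub.quotMod I) 0) := by
  haveI := Curve.isLocallyNoetherian k X
  have hMc : Coh.IsCoh M := Curve.isCoh_of_rank hM
  haveI := hMc.1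
  have hIinv : PicF.IsInvertible (ClSub.idealMod I) := (isInvertible_idealMod_iff I).mpr hD
  have hI1 : FlatMod.IsFinLocFreeOfRank 1 (ClSub.idealMod I) := (isInvertible_iff _).mp hIinv
  have hIc : Coh.IsCoh (ClSub.idealMod I) := Curve.isCoh_of_rank hI1
  have hOc : Coh.IsCoh (unitMod X) :=
    Curve.isCoh_of_rank ((isInvertible_iff _).mp (isInvertible_unit X))
  have hS := shortExact_LT_idealMod M (Curve.isFinLocFree_of_rank hM) I
  have e := Curve.euler_add k X _ hS (isCoh_tensorMod hMc hIc) (isCoh_tensorMod hMc hOc)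
    (isCoh_tensorMod hMc (isCoh_quotMod I))
  change Curv2.euler k X (CohB1.tensorMod M (unitMod X)) =
    Curv2.euler k X (CohB1.tensorMod M (ClSub.idealMod I)) +
      Curv2.euler k X (ParSh.resD I M) at e
  rw [Curve.euler_iso k X (SecTwist.unitorR M),
    euler_of_isTors k X hdim.le (isCoh_resD I hMc) (isTors_resD hdim I hD M)] at e
  have hdeg := deg_tensorMod k hdim.le n 1 M (ClSub.idealMod I) hM hI1
  rw [deg_idealMod k X hdim I hD] at hdeg
  unfold Curv2.deg at hdeg
  have : (Module.finrank k (Coh.HH X (ParSh.resD I M) 0) : ℤ) =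
      (n : ℤ) * Module.finrank k (Coh.HH X (ClSub.quotMod I) 0) := by
    push_cast at hdeg
    linarith
  exact_mod_cast this

/-- over a "field-like" commutative ring, a finite module of finrank zero is trivial. -/
lemma subsingleton_of_finrank_eq_zero {R M : Type*} [CommRing R] [Nontrivial R] [AddCommGroup M]
    [Module R M] (hF : ∀ a : R, a ≠ 0 → ∃ b, a * b = 1) (hfin : Module.Finite R M)
    (h : Module.finrank R M = 0) : Subsingleton M := by
  haveI : NoZeroDivisors R := by
    refine ⟨fun {a c} hac => ?_⟩
    by_cases ha : a = 0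
    · exact Or.inl ha
    · right
      obtain ⟨b, hb⟩ := hF a ha
      calc c = c * (a * b) := by rw [hb, mul_one]
        _ = (a * c) * b := by ring
        _ = 0 := by rw [hac, zero_mul]
  haveI : IsDomain R := NoZeroDivisors.to_isDomain R
  have h1 := Module.finrank_eq_zero_iff.mp h
  refine ⟨fun x y => ?_⟩
  have hz : ∀ z : M, z = 0 := by
    intro z
    obtain ⟨a, ha, haz⟩ := h1 z
    obtain ⟨b, hb⟩ := hF a ha
    calc z = (1 : R) • z := (one_smul _ z).symm
      _ = (b * a) • z := by rw [mul_comm b a, hb]
      _ = b • (a • z) := mul_smul b a z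
      _ = 0 := by rw [haz, smul_zero]
  rw [hz x, hz y]

section

variable {X}

/-- the cokernel of a monomorphism between finite locally free modules of the same rank is
torsion. -/
lemma isTors_cokernel_of_rank_eq {G E : X.Modules} (n : ℕ) (hG : FlatMod.IsFinLocFreeOfRank n G)
    (hE : FlatMod.IsFinLocFreeOfRank n E) (i : G ⟶ E) [Mono i] : IsTors (cokernel i) := by
  have hGc := Curve.isCoh_of_rank hG
  have hEc := Curve.isCoh_of_rank hE
  have hQc : Coh.IsCoh (cokernel i) := isCoh_cokernel i hGc hEc
  let S : ShortComplex X.Modules := ShortComplex.mk i (cokernel.π i) (cokernel.condition i)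
  have hS : S.ShortExact :=
    { exact := ShortComplex.exact_cokernel i
      mono_f := inferInstanceAs (Mono i)
      epi_g := inferInstanceAs (Epi (cokernel.π i)) }
  have g := gdim_add S hS hGc hQc
  change gdim E = gdim G + gdim (cokernel i) at g
  rw [gdim_of_rank hG, gdim_of_rank hE] at g
  have g0 : gdim (cokernel i) = 0 := by omega
  unfold gdim at g0
  unfold IsTors
  have hF : ∀ a : X.presheaf.stalk (genericPoint X), a ≠ 0 → ∃ b, a * b = 1 := by
    intro a ha
    letI : Field (X.presheaf.stalk (genericPoint X)) := inferInstanceAs (Field X.functionField)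
    exact ⟨a⁻¹, mul_inv_cancel₀ ha⟩
  exact subsingleton_of_finrank_eq_zero hF
    (Groth.Agent.LD.RS.finite_stalk (cokernel i) hQc (genericPoint X)) g0

end

end Groth.Agent.H5.ParSh
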