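import Mathlib
import Groth.Prelude.Def_ParBun2
import Groth.Agent.Lib.Helper5.ParSh.D
import Groth.Agent.Lib.Lead.Curve.DegMono
import Groth.Agent.Lib.Lead.QC.TwistEquiv
import Groth.Agent.Lib.Lead.QC.TensorExact
import Groth.Agent.Lib.Helper5.SD.MonoCrit
import Groth.Agent.Lib.Helper5.DegC.RankDeg

/-!
# The kernel of `H⁰(G ⊗ O_D) → H⁰(E ⊗ O_D)` for a generic isomorphism `G → E`
-/

set_option autoImplicit false
set_option linter.style.haveILetI false
universe u
open CategoryTheory CategoryTheory.Limits AlgebraicGeometry TopologicalSpace Opposite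

namespace Groth.Agent.H5.ParSh

open Groth.Agent.LD Groth.Agent.LD.QC Groth.Agent.H5.Curve4 Groth.Agent.H5.IntN
  Groth.Agent.H5.DegC

variable (k : Type u) [Field k] (X : Scheme.{u}) [X.Over (Spec (CommRingCat.of k))]
  [IsProper (X ↘ Spec (CommRingCat.of k))] [IsIntegral X]

lemma fibDMap_eq (I : X.IdealSheafData) {E E' : X.Modules} (φ : E ⟶ E') :
    ParSh.fibDMap k X I φ = CL.HHmap k (ParSh.resDMap I φ) 0 :=
  LinearMap.ext fun _ => rfl

lemma fibDMap_comp (I : X.IdealSheafData) {E E' E'' : X.Modules} (φ : E ⟶ E') (ψ : E' ⟶ E'') :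
    ParSh.fibDMap k X I (φ ≫ ψ) = (ParSh.fibDMap k X I ψ).comp (ParSh.fibDMap k X I φ) := by
  rw [fibDMap_eq, fibDMap_eq, fibDMap_eq, ← CL.HHmap_comp]
  congr 1
  exact tensorMap_comp_id _ φ ψ

lemma fibDMap_id (I : X.IdealSheafData) (E : X.Modules) :
    ParSh.fibDMap k X I (𝟙 E) = LinearMap.id := by
  rw [fibDMap_eq, ← CL.HHmap_id k (ParSh.resD I E) 0]
  congr 1
  exact tensorMap_id_id _ _

noncomputable def cokIso1 {X : Scheme.{u}} (Q : X.Modules) {G E : X.Modules} (i : G ⟶ E) :
    (twF Q).obj (cokernel i) ≅ cokernel ((twF Q).map i) :=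
  PreservesCokernel.iso (twF Q) i

noncomputable def cokIso2 {X : Scheme.{u}} (Q : X.Modules) {G E : X.Modules} (i : G ⟶ E) :
    cokernel ((twF Q).map i) ≅ cokernel (KoszTw.tensorMap i (𝟙 Q)) :=
  cokernel.mapIso ((twF Q).map i) (KoszTw.tensorMap i (𝟙 Q)) (Iso.refl _) (Iso.refl _) (by
      refine (Category.comp_id _).trans (Eq.trans ?_ (Category.id_comp _).symm)
      exact twF_map _ i)

/-- the cokernel of `i ⊗ O_D` is `(coker i) ⊗ O_D`. -/
noncomputable def cokernelResDIso {X : Scheme.{u}} (I : X.IdealSheafData) {G E : X.Modules}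
    (i : G ⟶ E) : ParSh.resD I (cokernel i) ≅ cokernel (ParSh.resDMap I i) :=
  cokIso1 (ClSub.quotMod I) i ≪≫ cokIso2 (ClSub.quotMod I) i

/-- `h⁰(T ⊗ O_D) ≤ h⁰(T)` for a coherent torsion module `T`. -/
theorem finrank_H0_resD_le (hdim : topologicalKrullDim X = 1) (I : X.IdealSheafData)
    {T : X.Modules} (hTc : Coh.IsCoh T) (hTt : IsTors T) :
    Module.finrank k (Coh.HH X (ParSh.resD I T) 0) ≤ Module.finrank k (Coh.HH X T 0) := by
  haveI := Curve.isLocallyNoetherian k X
  haveI := hTc.1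
  have hOc : Coh.IsCoh (Coh.structureModule X) :=
    Curve.isCoh_of_rank ((isInvertible_iff _).mp (Curve.isInvertible_structureModule X))
  have hS := shortExact_idealMod I
  let p0 := (LT T).map (ClSub.toSubscheme I)
  haveI : Epi p0 := by
    haveI := hS.epi_g
    exact (LT T).map_epi _
  let p : CohB1.tensorMod T (Coh.structureModule X) ⟶ ParSh.resD I T := p0
  haveI : Epi p := inferInstanceAs (Epi p0)
  have hTOc : Coh.IsCoh (CohB1.tensorMod T (Coh.structureModule X)) :=
    isCoh_tensorMod hTc hOc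
  have hTOt : IsTors (CohB1.tensorMod T (Coh.structureModule X)) :=
    Groth.Agent.H5.SD.isTors_of_gdim_eq_zero hTOc
      ((gdim_iso (SecTwist.unitorR T)).trans (gdim_of_isTors hTt))
  have h3 := finrank_H0_le_of_epi k X hdim.le hTOc (isCoh_resD I hTc) hTOt p
  rw [Groth.Agent.H5.Curve2.finrank_HH_iso k X (SecTwist.unitorR T) 0] at h3
  exact h3

/-- **key estimate**: for a monomorphism `i : G → E` of finite locally free modules of the same
rank, the kernel of `H⁰(G ⊗ O_D) → H⁰(E ⊗ O_D)` has dimension at most `deg E - deg G`. -/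
theorem finrank_ker_fibDMap_le (hdim : topologicalKrullDim X = 1) (I : X.IdealSheafData)
    (hD : BlowUp.IsEffCartierIdeal I) (n : ℕ) {G E : X.Modules}
    (hG : FlatMod.IsFinLocFreeOfRank n G) (hE : FlatMod.IsFinLocFreeOfRank n E)
    (i : G ⟶ E) [Mono i] :
    (Module.finrank k (LinearMap.ker (ParSh.fibDMap k X I i)) : ℤ) ≤
      Curv2.deg k X E n - Curv2.deg k X G n := by
  haveI := Curve.isLocallyNoetherian k X
  have hGc := Curve.isCoh_of_rank hG
  have hEc := Curve.isCoh_of_rank hE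
  haveI := hGc.1
  haveI := hEc.1
  have hTc : Coh.IsCoh (cokernel i) := isCoh_cokernel i hGc hEc
  haveI := hTc.1
  have hTt : IsTors (cokernel i) := isTors_cokernel_of_rank_eq n hG hE i
  -- dimension count on `D`
  have h1 := finrank_ker_H0 k X hdim.le (isCoh_resD I hGc) (isCoh_resD I hEc)
    (isTors_resD hdim I hD G) (isTors_resD hdim I hD E) (ParSh.resDMap I i)
  rw [finrank_H0_resD k X hdim I hD n hG, finrank_H0_resD k X hdim I hD n hE] at h1
  rw [fibDMap_eq]
  have h2 : (Module.finrank k (LinearMap.ker (CL.HHmap k (ParSh.resDMap I i) 0)) : ℤ) =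
      Module.finrank k (Coh.HH X (cokernel (ParSh.resDMap I i)) 0) := by linarith
  rw [h2, ← Groth.Agent.H5.Curve2.finrank_HH_iso k X (cokernelResDIso I i) 0]
  have h3 := finrank_H0_resD_le k X hdim I hTc hTt
  -- `h⁰(T) = deg E - deg G`
  let S : ShortComplex X.Modules := ShortComplex.mk i (cokernel.π i) (cokernel.condition i)
  have hSe : S.ShortExact :=
    { exact := ShortComplex.exact_cokernel i
      mono_f := inferInstanceAs (Mono i)
      epi_g := inferInstanceAs (Epi (cokernel.π i)) }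
  have e := Curve.euler_add k X S hSe hGc hEc hTc
  change Curv2.euler k X E = Curv2.euler k X G + Curv2.euler k X (cokernel i) at e
  rw [euler_of_isTors k X hdim.le hTc hTt] at e
  unfold Curv2.deg
  have h3' : (Module.finrank k (Coh.HH X (ParSh.resD I (cokernel i)) 0) : ℤ) ≤
      Module.finrank k (Coh.HH X (cokernel i) 0) := by exact_mod_cast h3
  linarith

end Groth.Agent.H5.ParSh
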