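import Mathlib
import Groth.Prelude.Def_ParBun2
import Groth.Agent.Lib.Helper5.ParSh.E

/-!
# Parabolic degree is monotone along generic isomorphisms (S18564)
-/

set_option autoImplicit false
set_option linter.style.haveILetI false
universe u
open CategoryTheory CategoryTheory.Limits AlgebraicGeometry TopologicalSpace Opposite

namespace Groth.Agent.H5.ParSh

open Groth.Agent.LD Groth.Agent.LD.QC Groth.Agent.H5.Curve4 Groth.Agent.H5.IntN
  Groth.Agent.H5.DegC

section LinAlg

variable {K V W : Type*} [Field K] [AddCommGroup V] [Module K V] [AddCommGroup W] [Module K W]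
  [Module.Finite K V] [Module.Finite K W]

/-- `dim F ≤ dim φ(F) + dim ker φ`. -/
lemma finrank_le_map_add_ker (φ : V →ₗ[K] W) (F : Submodule K V) :
    Module.finrank K F ≤ Module.finrank K (F.map φ) + Module.finrank K (LinearMap.ker φ) := by
  have h := LinearMap.finrank_range_add_finrank_ker (φ.domRestrict F)
  have h1 : LinearMap.range (φ.domRestrict F) = F.map φ := by
    ext y
    constructor
    · rintro ⟨x, rfl⟩
      exact ⟨x.1, x.2, rfl⟩
    · rintro ⟨x, hx, rfl⟩
      exact ⟨⟨x, hx⟩, rfl⟩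
  have h2 : Module.finrank K (LinearMap.ker (φ.domRestrict F)) ≤
      Module.finrank K (LinearMap.ker φ) := by
    let ι : LinearMap.ker (φ.domRestrict F) →ₗ[K] LinearMap.ker φ :=
      { toFun := fun x => ⟨x.1.1, by
          have := x.2
          rw [LinearMap.mem_ker] at this ⊢
          exact this⟩
        map_add' := fun _ _ => rfl
        map_smul' := fun _ _ => rfl }
    refine LinearMap.finrank_le_finrank_of_injective (f := ι) ?_
    intro x y hxy
    apply Subtype.ext
    apply Subtype.ext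
    exact congrArg (fun z : LinearMap.ker φ => (z : V)) hxy
  rw [h1] at h
  omega

/-- `dim φ⁻¹(F') ≤ dim F' + dim ker φ`. -/
lemma finrank_comap_le (φ : V →ₗ[K] W) (F' : Submodule K W) :
    Module.finrank K (F'.comap φ) ≤ Module.finrank K F' + Module.finrank K (LinearMap.ker φ) := by
  have h := finrank_le_map_add_ker φ (F'.comap φ)
  have h1 : Module.finrank K ((F'.comap φ).map φ) ≤ Module.finrank K F' :=
    Submodule.finrank_mono (Submodule.map_comap_le φ F')
  omega

lemma finrank_map_of_injective (φ : V →ₗ[K] W) (hφ : Function.Injective φ) (F : Submodule K V) :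
    Module.finrank K (F.map φ) = Module.finrank K F :=
  (LinearEquiv.finrank_eq (Submodule.equivMapOfInjective φ hφ F)).symm

end LinAlg

variable (k : Type u) [Field k] (X : Scheme.{u}) [X.Over (Spec (CommRingCat.of k))]
  [IsProper (X ↘ Spec (CommRingCat.of k))] [IsIntegral X]

lemma finite_fibD (I : X.IdealSheafData) {E : X.Modules} (hE : Coh.IsCoh E) :
    Module.Finite k (ParSh.fibD X I E) :=
  Curve.finite_HH k X _ (isCoh_resD I hE) 0

lemma fibDMap_bijective_of_isIso (I : X.IdealSheafData) {E F : X.Modules} (f : E ⟶ F) [IsIso f] :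
    Function.Bijective (ParSh.fibDMap k X I f) := by
  have h1 : (ParSh.fibDMap k X I (inv f)).comp (ParSh.fibDMap k X I f) = LinearMap.id := by
    rw [← fibDMap_comp, IsIso.hom_inv_id, fibDMap_id]
  have h2 : (ParSh.fibDMap k X I f).comp (ParSh.fibDMap k X I (inv f)) = LinearMap.id := by
    rw [← fibDMap_comp, IsIso.inv_hom_id, fibDMap_id]
  refine ⟨fun x y hxy => ?_, fun y => ⟨ParSh.fibDMap k X I (inv f) y, ?_⟩⟩
  · have := congrArg (ParSh.fibDMap k X I (inv f)) hxy
    rw [← LinearMap.comp_apply, ← LinearMap.comp_apply, h1] at this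
    exact this
  · rw [← LinearMap.comp_apply, h2]
    rfl

/-- **S18564**. -/
theorem gpDeg_le_of_mono (hdim : topologicalKrullDim X = 1)
    (I : X.IdealSheafData) (hD : BlowUp.IsEffCartierIdeal I) (α : ℝ) (hα0 : 0 ≤ α) (hα1 : α < 1)
    {E F : X.Modules} (n : ℕ) (hE : FlatMod.IsFinLocFreeOfRank n E)
    (hF : FlatMod.IsFinLocFreeOfRank n F)
    (F₁ : Submodule k (ParSh.fibD X I E)) (F₁' : Submodule k (ParSh.fibD X I F))
    (f : E ⟶ F) [Mono f] (hf : ParSh.IsGPHom k X I F₁ F₁' f) :
    ParSh.gpDeg k X α E F₁ n ≤ ParSh.gpDeg k X α F F₁' n ∧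
      (ParSh.gpDeg k X α E F₁ n = ParSh.gpDeg k X α F F₁' n ↔
        (IsIso f ∧ (0 < α → Submodule.map (ParSh.fibDMap k X I f) F₁ = F₁'))) := by
  haveI := finite_fibD k X I (Curve.isCoh_of_rank hE)
  haveI := finite_fibD k X I (Curve.isCoh_of_rank hF)
  have hdeg := Curve.deg_le_of_mono k X hdim.le n hE hF f
  have hker := finrank_ker_fibDMap_le k X hdim I hD n hE hF f
  have h1 := finrank_le_map_add_ker (ParSh.fibDMap k X I f) F₁
  have h2 : Module.finrank k (F₁.map (ParSh.fibDMap k X I f)) ≤ Module.finrank k F₁' :=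
    Submodule.finrank_mono hf
  -- real-valued versions
  set d : ℕ := Module.finrank k F₁ with hd
  set d' : ℕ := Module.finrank k F₁' with hd'
  set κ : ℕ := Module.finrank k (LinearMap.ker (ParSh.fibDMap k X I f)) with hκ
  have h3 : (d : ℝ) ≤ d' + κ := by exact_mod_cast (by omega : d ≤ d' + κ)
  have h4 : (κ : ℝ) ≤ (Curv2.deg k X F n : ℝ) - (Curv2.deg k X E n : ℝ) := by
    exact_mod_cast hker
  have h5 : (Curv2.deg k X E n : ℝ) ≤ Curv2.deg k X F n := by exact_mod_cast hdeg.1
  have hκ0 : (0 : ℝ) ≤ κ := Nat.cast_nonneg _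
  have key : ParSh.gpDeg k X α F F₁' n - ParSh.gpDeg k X α E F₁ n ≥
      (1 - α) * ((Curv2.deg k X F n : ℝ) - (Curv2.deg k X E n : ℝ)) := by
    unfold ParSh.gpDeg ParSh.gpWt
    rw [← hd, ← hd']
    nlinarith
  refine ⟨?_, ?_, ?_⟩
  · nlinarith
  · intro heq
    have hℓ : (Curv2.deg k X F n : ℝ) - (Curv2.deg k X E n : ℝ) ≤ 0 := by
      by_contra hcon
      push_neg at hcon
      nlinarith
    have hdegeq : Curv2.deg k X E n = Curv2.deg k X F n := by
      have : (Curv2.deg k X E n : ℝ) = Curv2.deg k X F n := le_antisymm h5 (by linarith)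
      exact_mod_cast this
    haveI hiso : IsIso f := hdeg.2 hdegeq
    refine ⟨hiso, fun hα => ?_⟩
    have hbij := fibDMap_bijective_of_isIso k X I f
    have hmap := finrank_map_of_injective (ParSh.fibDMap k X I f) hbij.1 F₁
    -- `α * d = α * d'`
    have hdd : (d : ℝ) = d' := by
      unfold ParSh.gpDeg ParSh.gpWt at heq
      rw [← hd, ← hd', hdegeq] at heq
      have : α * (d : ℝ) = α * d' := by linarith
      exact mul_left_cancel₀ hα.ne' this
    have hdd' : d = d' := by exact_mod_cast hdd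
    exact Submodule.eq_of_le_of_finrank_eq hf (by rw [hmap]; exact hdd')
  · rintro ⟨hiso, hmap⟩
    haveI := hiso
    have hdegeq : Curv2.deg k X E n = Curv2.deg k X F n := Curve.deg_iso k X (asIso f) n
    unfold ParSh.gpDeg ParSh.gpWt
    rw [← hd, ← hd', hdegeq]
    rcases hα0.eq_or_lt with h0 | hpos
    · rw [← h0]; ring
    · have hbij := fibDMap_bijective_of_isIso k X I f
      have hm := finrank_map_of_injective (ParSh.fibDMap k X I f) hbij.1 F₁
      rw [hmap hpos] at hm
      rw [hd, hd', hm]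

end Groth.Agent.H5.ParSh
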