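import Mathlib
import Groth.Prelude.Def_ParBun2
import Groth.Agent.Lib.Helper5.ParSh.F
import Groth.Agent.Lib.Helper5.Curve4.VB2
import Groth.Agent.Lib.Helper5.Curve4.Sat2

/-!
# Kernel, coimage and saturated image of a parabolic homomorphism
-/

set_option autoImplicit false
set_option linter.style.haveILetI false
universe u
open CategoryTheory CategoryTheory.Limits AlgebraicGeometry TopologicalSpace Opposite

namespace Groth.Agent.H5.ParSh

open Groth.Agent.LD Groth.Agent.LD.QC Groth.Agent.H5.Curve4 Groth.Agent.H5.IntN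
  Groth.Agent.H5.DegC

section LinAlg

variable {K U V W : Type*} [Field K] [AddCommGroup U] [Module K U] [AddCommGroup V] [Module K V]
  [AddCommGroup W] [Module K W] [Module.Finite K U] [Module.Finite K V] [Module.Finite K W]

/-- for `U --φ--> V --ψ--> W` exact in the middle and `F ⊆ V`:
`dim F ≤ dim φ⁻¹(F) + dim ψ(F)`. -/
lemma finrank_le_comap_add_map (φ : U →ₗ[K] V) (ψ : V →ₗ[K] W)
    (hex : LinearMap.ker ψ ≤ LinearMap.range φ) (F : Submodule K V) :
    Module.finrank K F ≤ Module.finrank K (F.comap φ) + Module.finrank K (F.map ψ) := by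
  have h := LinearMap.finrank_range_add_finrank_ker (ψ.domRestrict F)
  have h1 : LinearMap.range (ψ.domRestrict F) = F.map ψ := by
    ext y
    constructor
    · rintro ⟨x, rfl⟩
      exact ⟨x.1, x.2, rfl⟩
    · rintro ⟨x, hx, rfl⟩
      exact ⟨⟨x, hx⟩, rfl⟩
  have h2 : Module.finrank K (LinearMap.ker (ψ.domRestrict F)) ≤
      Module.finrank K ((F.comap φ).map φ) := by
    let ι : LinearMap.ker (ψ.domRestrict F) →ₗ[K] ((F.comap φ).map φ) :=
      { toFun := fun x => ⟨x.1.1, by
          have hx := x.2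
          rw [LinearMap.mem_ker] at hx
          have hx' : x.1.1 ∈ LinearMap.ker ψ := hx
          obtain ⟨u, hu⟩ := hex hx'
          refine ⟨u, ?_, hu⟩
          change φ u ∈ F
          rw [hu]
          exact x.1.2⟩
        map_add' := fun _ _ => rfl
        map_smul' := fun _ _ => rfl }
    refine LinearMap.finrank_le_finrank_of_injective (f := ι) ?_
    intro x y hxy
    apply Subtype.ext
    apply Subtype.ext
    exact congrArg (fun z : ((F.comap φ).map φ) => (z : V)) hxy
  have h3 : Module.finrank K ((F.comap φ).map φ) ≤ Module.finrank K (F.comap φ) :=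
    Submodule.finrank_map_le φ _
  rw [h1] at h
  omega

end LinAlg

variable (k : Type u) [Field k] (X : Scheme.{u}) [X.Over (Spec (CommRingCat.of k))]
  [IsProper (X ↘ Spec (CommRingCat.of k))] [IsIntegral X]

lemma euler_of_isZero {G : X.Modules} (hG : IsZero G) : Curv2.euler k X G = 0 := by
  unfold Curv2.euler
  have h : ∀ i : ℕ, (-1 : ℤ) ^ i * (Module.finrank k (Coh.HH X G i) : ℤ) = 0 := by
    intro i
    haveI := CL.subsingleton_HH_of_isZero hG i
    rw [Module.finrank_zero_of_subsingleton]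
    simp
  simp only [h]
  exact finsum_zero

lemma deg_zero_of_isZero {G : X.Modules} (hG : IsZero G) : Curv2.deg k X G 0 = 0 := by
  unfold Curv2.deg
  rw [euler_of_isZero k X hG]
  simp

lemma HHmap_zero_apply {M N : X.Modules} (x : Coh.HH X M 0) :
    CL.HHmap k (0 : M ⟶ N) 0 x = 0 := by
  have h := CL.HHmap_add k (0 : M ⟶ N) 0 0
  rw [add_zero] at h
  have h' : CL.HHmap k (0 : M ⟶ N) 0 = 0 := left_eq_add.mp h
  rw [h']
  rfl

/-- `H⁰` is exact on `A → B → coker → 0` for coherent torsion modules. -/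
theorem ker_H0_cokernel_π (hdim : topologicalKrullDim X ≤ 1) {A B : X.Modules}
    (hA : Coh.IsCoh A) (hB : Coh.IsCoh B) (htA : IsTors A) (htB : IsTors B) (φ : A ⟶ B) :
    LinearMap.ker (CL.HHmap k (cokernel.π φ) 0) = LinearMap.range (CL.HHmap k φ 0) := by
  haveI := Curve.isLocallyNoetherian k X
  have hCc : Coh.IsCoh (cokernel φ) := isCoh_cokernel φ hA hB
  have hCt : IsTors (cokernel φ) := isTors_right (shortExact_coimage_cokernel φ) htB
  haveI := Curve.finite_HH k X A hA 0
  haveI := Curve.finite_HH k X B hB 0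
  have hle : LinearMap.range (CL.HHmap k φ 0) ≤ LinearMap.ker (CL.HHmap k (cokernel.π φ) 0) := by
    rintro _ ⟨x, rfl⟩
    rw [LinearMap.mem_ker, ← LinearMap.comp_apply, ← CL.HHmap_comp, cokernel.condition]
    exact HHmap_zero_apply k X x
  have h1 := finrank_ker_H0 k X hdim hA hB htA htB φ
  have h2 := finrank_ker_H0 k X hdim hB hCc htB hCt (cokernel.π φ)
  have h3 : Module.finrank k (Coh.HH X (cokernel (cokernel.π φ)) 0) = 0 := by
    haveI := CL.subsingleton_HH_of_isZero (isZero_cokernel_of_epi (cokernel.π φ)) 0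
    exact Module.finrank_zero_of_subsingleton
  have h4 := LinearMap.finrank_range_add_finrank_ker (CL.HHmap k φ 0)
  rw [h3] at h2
  symm
  refine Submodule.eq_of_le_of_finrank_eq hle ?_
  have : (Module.finrank k (LinearMap.range (CL.HHmap k φ 0)) : ℤ) =
      Module.finrank k (LinearMap.ker (CL.HHmap k (cokernel.π φ) 0)) := by
    have h4' : (Module.finrank k (LinearMap.range (CL.HHmap k φ 0)) : ℤ) +
        Module.finrank k (LinearMap.ker (CL.HHmap k φ 0)) = Module.finrank k (Coh.HH X A 0) := by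
      exact_mod_cast h4
    push_cast at h2
    linarith
  exact_mod_cast this

variable {X}

lemma cokIso1_compat (Q : X.Modules) {A B : X.Modules} (φ : A ⟶ B) :
    (twF Q).map (cokernel.π φ) ≫ (cokIso1 Q φ).hom = cokernel.π ((twF Q).map φ) :=
  PreservesCokernel.π_iso_hom _ _

lemma cokIso2_compat (Q : X.Modules) {A B : X.Modules} (φ : A ⟶ B) :
    cokernel.π ((twF Q).map φ) ≫ (cokIso2 Q φ).hom = cokernel.π (KoszTw.tensorMap φ (𝟙 Q)) := by
  unfold cokIso2
  rw [cokernel.mapIso_hom, cokernel.π_desc, Iso.refl_hom]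
  exact Category.id_comp _

lemma cokIso_compat (Q : X.Modules) {A B : X.Modules} (φ : A ⟶ B) :
    (twF Q).map (cokernel.π φ) ≫ (cokIso1 Q φ ≪≫ cokIso2 Q φ).hom =
      cokernel.π (KoszTw.tensorMap φ (𝟙 Q)) := by
  rw [Iso.trans_hom, ← Category.assoc, cokIso1_compat, cokIso2_compat]

lemma resDMap_π_comp_cokernelResDIso (I : X.IdealSheafData) {A B : X.Modules} (φ : A ⟶ B) :
    ParSh.resDMap I (cokernel.π φ) ≫ (cokernelResDIso I φ).hom =
      cokernel.π (ParSh.resDMap I φ) := by
  have h1 : ParSh.resDMap I (cokernel.π φ) = (twF (ClSub.quotMod I)).map (cokernel.π φ) :=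
    (twF_map _ _).symm
  rw [h1]
  exact cokIso_compat (ClSub.quotMod I) φ

variable (X)

/-- exactness in the middle of `H⁰(A_D) → H⁰(B_D) → H⁰((coker)_D)`. -/
theorem ker_fibDMap_cokernel_π_le (hdim : topologicalKrullDim X = 1) (I : X.IdealSheafData)
    (hD : BlowUp.IsEffCartierIdeal I) {A B : X.Modules} (hA : Coh.IsCoh A) (hB : Coh.IsCoh B)
    (φ : A ⟶ B) :
    LinearMap.ker (ParSh.fibDMap k X I (cokernel.π φ)) ≤ LinearMap.range (ParSh.fibDMap k X I φ) := by
  haveI := hA.1
  haveI := hB.1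
  intro x hx
  rw [fibDMap_eq] at hx ⊢
  rw [← ker_H0_cokernel_π k X hdim.le (isCoh_resD I hA) (isCoh_resD I hB)
    (isTors_resD hdim I hD A) (isTors_resD hdim I hD B) (ParSh.resDMap I φ)]
  rw [LinearMap.mem_ker] at hx ⊢
  rw [← resDMap_π_comp_cokernelResDIso I φ, CL.HHmap_comp, LinearMap.comp_apply, hx, map_zero]

end Groth.Agent.H5.ParSh
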