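import Mathlib
import Groth.Prelude.Def_ParBun2
import Groth.Agent.Lib.Helper5.ParSh.G

/-!
# The core estimate for parabolic homomorphisms between semistable GPBs
-/

set_option autoImplicit false
set_option linter.style.haveILetI false
universe u
open CategoryTheory CategoryTheory.Limits AlgebraicGeometry TopologicalSpace Opposite

namespace Groth.Agent.H5.ParSh

open Groth.Agent.LD Groth.Agent.LD.QC Groth.Agent.H5.Curve4 Groth.Agent.H5.IntN
  Groth.Agent.H5.DegC

variable (k : Type u) [Field k] (X : Scheme.{u}) [X.Over (Spec (CommRingCat.of k))]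
  [IsProper (X ↘ Spec (CommRingCat.of k))] [Smooth (X ↘ Spec (CommRingCat.of k))] [IsIntegral X]

lemma subsingleton_fibD_of_isZero (I : X.IdealSheafData) {K : X.Modules} (hK : IsZero K) :
    Subsingleton (ParSh.fibD X I K) := by
  have hz : IsZero ((twF (ClSub.quotMod I)).obj K) := (twF (ClSub.quotMod I)).map_isZero hK
  exact CL.subsingleton_HH_of_isZero hz 0

set_option maxHeartbeats 1000000 in
theorem core (hdim : topologicalKrullDim X = 1) (I : X.IdealSheafData)
    (hD : BlowUp.IsEffCartierIdeal I) (α : ℝ) (hα0 : 0 ≤ α) (hα1 : α < 1)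
    {E F : X.Modules} (n m : ℕ) (hE : FlatMod.IsFinLocFreeOfRank n E)
    (hF : FlatMod.IsFinLocFreeOfRank m F)
    (F₁ : Submodule k (ParSh.fibD X I E)) (F₁' : Submodule k (ParSh.fibD X I F))
    (f : E ⟶ F) (hf : ParSh.IsGPHom k X I F₁ F₁' f) :
    ∃ (a b : ℕ), a + b = n ∧ FlatMod.IsFinLocFreeOfRank a (kernel f) ∧
      FlatMod.IsFinLocFreeOfRank b (cokernel (kernel.ι f)) ∧
      ParSh.gpDeg k X α E F₁ n ≤
        ParSh.gpDeg k X α (kernel f) (ParSh.gpInduced k X I (kernel.ι f) F₁) a +
        ParSh.gpDeg k X α (cokernel (kernel.ι f))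
          (ParSh.gpCoinduced k X I (cokernel.π (kernel.ι f)) F₁) b ∧
      (a = 0 → ParSh.gpDeg k X α (kernel f) (ParSh.gpInduced k X I (kernel.ι f) F₁) a = 0) ∧
      ∃ (J' : X.Modules) (i' : J' ⟶ F) (j : cokernel (kernel.ι f) ⟶ J') (s : ℕ), Mono i' ∧
        j ≫ i' = Abelian.factorThruCoimage f ∧
        FlatMod.IsFinLocFreeOfRank b J' ∧ FlatMod.IsFinLocFreeOfRank s (cokernel i') ∧ b + s = m ∧
        ParSh.gpDeg k X α (cokernel (kernel.ι f))
            (ParSh.gpCoinduced k X I (cokernel.π (kernel.ι f)) F₁) b ≤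
          ParSh.gpDeg k X α J' (ParSh.gpInduced k X I i' F₁') b ∧
        (ParSh.gpDeg k X α (cokernel (kernel.ι f))
            (ParSh.gpCoinduced k X I (cokernel.π (kernel.ι f)) F₁) b =
          ParSh.gpDeg k X α J' (ParSh.gpInduced k X I i' F₁') b → IsIso j) := by
  obtain ⟨a, b, hab, hK, hC, hdeg⟩ := kernel_image_facts k X hdim.le n m hE hF f
  have hC' : FlatMod.IsFinLocFreeOfRank b (cokernel (kernel.ι f)) := hC
  have hKc := Curve.isCoh_of_rank hK
  have hEc := Curve.isCoh_of_rank hE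
  have hFc := Curve.isCoh_of_rank hF
  have hCc := Curve.isCoh_of_rank hC'
  haveI := finite_fibD k X I hKc
  haveI := finite_fibD k X I hEc
  haveI := finite_fibD k X I hFc
  haveI := finite_fibD k X I hCc
  refine ⟨a, b, hab, hK, hC', ?_, ?_, ?_⟩
  · -- additivity
    have hex := ker_fibDMap_cokernel_π_le k X hdim I hD hKc hEc (kernel.ι f)
    have hB := finrank_le_comap_add_map (ParSh.fibDMap k X I (kernel.ι f))
      (ParSh.fibDMap k X I (cokernel.π (kernel.ι f))) hex F₁
    have hB' : (Module.finrank k F₁ : ℝ) ≤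
        (Module.finrank k (F₁.comap (ParSh.fibDMap k X I (kernel.ι f))) : ℝ) +
        (Module.finrank k (F₁.map (ParSh.fibDMap k X I (cokernel.π (kernel.ι f)))) : ℝ) := by
      exact_mod_cast hB
    have hdeg' : (Curv2.deg k X E n : ℝ) = (Curv2.deg k X (kernel f) a : ℝ) +
        (Curv2.deg k X (cokernel (kernel.ι f)) b : ℝ) := by
      exact_mod_cast hdeg
    unfold ParSh.gpDeg ParSh.gpWt ParSh.gpInduced ParSh.gpCoinduced
    rw [hdeg']
    have := mul_le_mul_of_nonneg_left hB' hα0
    linarith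
  · intro ha
    subst ha
    have hKz : IsZero (kernel f) := isZero_of_rank_zero hK
    haveI := subsingleton_fibD_of_isZero X I hKz
    unfold ParSh.gpDeg ParSh.gpWt
    rw [deg_zero_of_isZero k X hKz, Module.finrank_zero_of_subsingleton]
    simp
  · obtain ⟨J', i', j, s, hi', hfac, hJ', hcok, hbs, -, -, -⟩ :=
      exists_saturation k X hdim.le (Abelian.factorThruCoimage f) b m hC hF
    haveI := hi'
    have hJc := Curve.isCoh_of_rank hJ'
    haveI := finite_fibD k X I hJc
    haveI : Mono (j ≫ i') := by rw [hfac]; infer_instance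
    haveI : Mono j := mono_of_mono j i'
    have hjpar : ParSh.IsGPHom k X I
        (ParSh.gpCoinduced k X I (cokernel.π (kernel.ι f)) F₁)
        (ParSh.gpInduced k X I i' F₁') j := by
      unfold ParSh.IsGPHom ParSh.gpCoinduced ParSh.gpInduced
      rintro _ ⟨_, ⟨x, hx, rfl⟩, rfl⟩
      rw [Submodule.mem_comap]
      have hcomp : cokernel.π (kernel.ι f) ≫ j ≫ i' = f := by
        rw [hfac]
        exact Abelian.coimage.fac f
      have h1 : ParSh.fibDMap k X I f =
          (ParSh.fibDMap k X I i').comp ((ParSh.fibDMap k X I j).comp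
            (ParSh.fibDMap k X I (cokernel.π (kernel.ι f)))) := by
        rw [← fibDMap_comp, ← fibDMap_comp, Category.assoc, hcomp]
      have h2 : ParSh.fibDMap k X I f x ∈ F₁' := hf ⟨x, hx, rfl⟩
      rw [h1] at h2
      exact h2
    have hmain := gpDeg_le_of_mono k X hdim I hD α hα0 hα1 b hC' hJ'
      (ParSh.gpCoinduced k X I (cokernel.π (kernel.ι f)) F₁) (ParSh.gpInduced k X I i' F₁') j hjpar
    exact ⟨J', i', j, s, hi', hfac, hJ', hcok, hbs, hmain.1, fun h => (hmain.2.mp h).1⟩

end Groth.Agent.H5.ParSh
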