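import Mathlib
import Groth.Prelude.Def_ParBun2
import Groth.Agent.Lib.Helper5.ParSh.H
import Groth.Agent.Lib.Helper5.Curve4.VB1

/-!
# Parabolic homomorphisms between semistable / stable GPBs of the same slope (S18565, S18566)
-/

set_option autoImplicit false
set_option linter.style.haveILetI false
universe u
open CategoryTheory CategoryTheory.Limits AlgebraicGeometry TopologicalSpace Opposite

namespace Groth.Agent.H5.ParSh

open Groth.Agent.LD Groth.Agent.LD.QC Groth.Agent.H5.Curve4 Groth.Agent.H5.IntN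
  Groth.Agent.H5.DegC

section Arith

lemma arith_eq (PE PF PK PC PJ : ℝ) (n m a b : ℕ) (hab : a + b = n) (hn : 0 < n) (hm : 0 < m)
    (h1 : PE ≤ PK + PC) (h2 : PK * n ≤ PE * a) (h3 : PC ≤ PJ) (h4 : PJ * m ≤ PF * b)
    (hμ : PE * m = PF * n) : PC = PJ := by
  have hn' : (0 : ℝ) < n := by exact_mod_cast hn
  have hm' : (0 : ℝ) < m := by exact_mod_cast hm
  have habr : (a : ℝ) + b = n := by exact_mod_cast hab
  have e1 : PE * b ≤ PC * n := by
    have : PE * n ≤ PK * n + PC * n := by nlinarith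
    have hb : (b : ℝ) = n - a := by linarith
    rw [hb]
    nlinarith
  have e2 : PJ * (n * m) ≤ PC * (n * m) := by
    have t1 : PJ * m * n ≤ PF * b * n := mul_le_mul_of_nonneg_right h4 hn'.le
    have t2 : PE * b * m ≤ PC * n * m := mul_le_mul_of_nonneg_right e1 hm'.le
    have t3 : PF * b * n = PE * b * m := by
      calc PF * b * n = (PF * n) * b := by ring
        _ = (PE * m) * b := by rw [hμ]
        _ = PE * b * m := by ring
    nlinarith
  have hnm : (0 : ℝ) < n * m := mul_pos hn' hm'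
  have e3 : PJ ≤ PC := le_of_mul_le_mul_right e2 hnm
  exact le_antisymm h3 e3

lemma arith_contra (PE PF PK PC PJ : ℝ) (n m a b : ℕ) (hab : a + b = n) (hn : 0 < n) (hm : 0 < m)
    (h1 : PE ≤ PK + PC) (h2 : PK * n < PE * a) (h3 : PC ≤ PJ) (h4 : PJ * m ≤ PF * b)
    (hμ : PE * m = PF * n) : False := by
  have hn' : (0 : ℝ) < n := by exact_mod_cast hn
  have hm' : (0 : ℝ) < m := by exact_mod_cast hm
  have habr : (a : ℝ) + b = n := by exact_mod_cast hab
  have e1 : PE * b < PC * n := by
    have : PE * n ≤ PK * n + PC * n := by nlinarith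
    have hb : (b : ℝ) = n - a := by linarith
    rw [hb]
    nlinarith
  have t1 : PJ * m * n ≤ PF * b * n := mul_le_mul_of_nonneg_right h4 hn'.le
  have t2 : PE * b * m < PC * n * m := mul_lt_mul_of_pos_right e1 hm'
  have t3 : PF * b * n = PE * b * m := by
    calc PF * b * n = (PF * n) * b := by ring
      _ = (PE * m) * b := by rw [hμ]
      _ = PE * b * m := by ring
  have t4 : PC * n * m ≤ PJ * n * m := by
    have := mul_le_mul_of_nonneg_right h3 (mul_pos hn' hm').le
    nlinarith
  nlinarith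

end Arith

variable (k : Type u) [Field k] (X : Scheme.{u}) [X.Over (Spec (CommRingCat.of k))]
  [IsProper (X ↘ Spec (CommRingCat.of k))] [Smooth (X ↘ Spec (CommRingCat.of k))] [IsIntegral X]

/-- the cokernel of `f` is the cokernel of the saturated image when `j` is an isomorphism. -/
noncomputable def cokernelIsoOfFac {E F J' : X.Modules} (f : E ⟶ F) (i' : J' ⟶ F)
    (j : cokernel (kernel.ι f) ⟶ J') [IsIso j] (hfac : j ≫ i' = Abelian.factorThruCoimage f) :
    cokernel f ≅ cokernel i' :=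
  cokernelIsoOfEq (Abelian.coimage.fac f).symm ≪≫
    cokernelEpiComp (Abelian.coimage.π f) (Abelian.factorThruCoimage f) ≪≫
    cokernelIsoOfEq hfac.symm ≪≫ cokernelEpiComp j i'

/-- **S18565**. -/
theorem cokernel_locFree (hdim : topologicalKrullDim X = 1) (I : X.IdealSheafData)
    (hD : BlowUp.IsEffCartierIdeal I) (α : ℝ) (hα0 : 0 ≤ α) (hα1 : α < 1)
    {E F : X.Modules} (n m : ℕ) (hn : 0 < n) (hm : 0 < m)
    (hE : FlatMod.IsFinLocFreeOfRank n E) (hF : FlatMod.IsFinLocFreeOfRank m F)
    (F₁ : Submodule k (ParSh.fibD X I E)) (F₁' : Submodule k (ParSh.fibD X I F))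
    (hEss : ParSh.IsGPSemistable k X I α F₁ n) (hFss : ParSh.IsGPSemistable k X I α F₁' m)
    (hμ : ParSh.gpDeg k X α E F₁ n * (m : ℝ) = ParSh.gpDeg k X α F F₁' m * (n : ℝ))
    (f : E ⟶ F) (hf : ParSh.IsGPHom k X I F₁ F₁' f) :
    ∃ r₀ : ℕ, FlatMod.IsFinLocFreeOfRank r₀ (cokernel f) := by
  obtain ⟨a, b, hab, hK, hC, h1, ha0, J', i', j, s, hi', hfac, hJ', hcok, hbs, h3, hiso⟩ :=
    core k X hdim I hD α hα0 hα1 n m hE hF F₁ F₁' f hf
  rcases Nat.eq_zero_or_pos b with hb | hb
  · subst hb
    have hCz : IsZero (cokernel (kernel.ι f)) := isZero_of_rank_zero hC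
    have hf0 : f = 0 := by
      rw [← Abelian.coimage.fac f]
      have : Abelian.coimage.π f = 0 := hCz.eq_of_tgt _ _
      rw [this, zero_comp]
    subst hf0
    exact ⟨m, isFinLocFreeOfRank_of_iso (cokernelZeroIsoTarget (X := E) (Y := F)).symm hF⟩
  · have h2 : ParSh.gpDeg k X α (kernel f) (ParSh.gpInduced k X I (kernel.ι f) F₁) a * (n : ℝ) ≤
        ParSh.gpDeg k X α E F₁ n * (a : ℝ) := by
      rcases Nat.eq_zero_or_pos a with ha | ha
      · rw [ha0 ha, ha]
        simp
      · exact hEss (kernel f) a (kernel.ι f) inferInstance ha hK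
    have h4 := hFss J' b i' hi' hb hJ'
    have heq := arith_eq _ _ _ _ _ n m a b hab hn hm h1 h2 h3 h4 hμ
    haveI := hiso heq
    exact ⟨s, isFinLocFreeOfRank_of_iso (cokernelIsoOfFac X f i' j hfac).symm hcok⟩

/-- **S18566**. -/
theorem zero_or_iso (hdim : topologicalKrullDim X = 1) (I : X.IdealSheafData)
    (hD : BlowUp.IsEffCartierIdeal I) (α : ℝ) (hα0 : 0 ≤ α) (hα1 : α < 1)
    {E F : X.Modules} (n m : ℕ) (hn : 0 < n) (hm : 0 < m)
    (hE : FlatMod.IsFinLocFreeOfRank n E) (hF : FlatMod.IsFinLocFreeOfRank m F)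
    (F₁ : Submodule k (ParSh.fibD X I E)) (F₁' : Submodule k (ParSh.fibD X I F))
    (hEss : ParSh.IsGPSemistable k X I α F₁ n) (hEst : ParSh.IsGPStable k X I α F₁ n)
    (hFss : ParSh.IsGPSemistable k X I α F₁' m) (hFst : ParSh.IsGPStable k X I α F₁' m)
    (hμ : ParSh.gpDeg k X α E F₁ n * (m : ℝ) = ParSh.gpDeg k X α F F₁' m * (n : ℝ))
    (f : E ⟶ F) (hf : ParSh.IsGPHom k X I F₁ F₁' f) :
    f = 0 ∨ (IsIso f ∧ (0 < α → Submodule.map (ParSh.fibDMap k X I f) F₁ = F₁')) := by
  obtain ⟨a, b, hab, hK, hC, h1, ha0, J', i', j, s, hi', hfac, hJ', hcok, hbs, h3, hiso⟩ :=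
    core k X hdim I hD α hα0 hα1 n m hE hF F₁ F₁' f hf
  rcases Nat.eq_zero_or_pos b with hb | hb
  · left
    subst hb
    have hCz : IsZero (cokernel (kernel.ι f)) := isZero_of_rank_zero hC
    rw [← Abelian.coimage.fac f]
    have : Abelian.coimage.π f = 0 := hCz.eq_of_tgt _ _
    rw [this, zero_comp]
  · right
    have h4 := hFss J' b i' hi' hb hJ'
    rcases Nat.eq_zero_or_pos a with ha | ha
    · -- `f` is a monomorphism
      subst ha
      have hKz : IsZero (kernel f) := isZero_of_rank_zero hK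
      haveI : Mono f := Preadditive.mono_of_kernel_zero (hKz.eq_of_src _ _)
      have hEc := Curve.isCoh_of_rank hE
      haveI := finite_fibD k X I hEc
      have hnm : n ≤ m := rank_le_of_mono X f n m hE hF
      rcases hnm.eq_or_lt with hnm | hnm
      · subst hnm
        have hmain := gpDeg_le_of_mono k X hdim I hD α hα0 hα1 n hE hF F₁ F₁' f hf
        have hn' : (n : ℝ) ≠ 0 := by exact_mod_cast hn.ne'
        exact hmain.2.mp (mul_right_cancel₀ hn' hμ)
      · exfalso
        have hst := hFst E n f inferInstance hn hnm hE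
        have hle : F₁ ≤ ParSh.gpInduced k X I f F₁' := by
          unfold ParSh.gpInduced
          exact Submodule.map_le_iff_le_comap.mp hf
        have hfr : (Module.finrank k F₁ : ℝ) ≤
            (Module.finrank k (ParSh.gpInduced k X I f F₁') : ℝ) := by
          exact_mod_cast Submodule.finrank_mono hle
        have hdeg : ParSh.gpDeg k X α E F₁ n ≤
            ParSh.gpDeg k X α E (ParSh.gpInduced k X I f F₁') n := by
          unfold ParSh.gpDeg ParSh.gpWt
          have := mul_le_mul_of_nonneg_left hfr hα0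
          linarith
        have hm' : (0 : ℝ) < m := by exact_mod_cast hm
        have := mul_le_mul_of_nonneg_right hdeg hm'.le
        linarith
    · exfalso
      have h2 := hEst (kernel f) a (kernel.ι f) inferInstance ha (by omega) hK
      exact arith_contra _ _ _ _ _ n m a b hab hn hm h1 h2 h3 h4 hμ

end Groth.Agent.H5.ParSh
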