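import Mathlib
import Groth.Prelude.Def_ParBun2
import Groth.Agent.Lib.Helper5.ParSh.J
import Groth.Agent.Lib.Helper5.Eig.Eig3
import Groth.Agent.Lib.Helper5.SD.TwLin
import Groth.Agent.Lib.Lead.CohLES.DualLin

/-!
# Stable generalized parabolic bundles are simple (S18567)
-/

set_option autoImplicit false
set_option linter.style.haveILetI false
universe u
open CategoryTheory CategoryTheory.Limits AlgebraicGeometry TopologicalSpace Opposite

namespace Groth.Agent.H5.ParSh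

open Groth.Agent.LD Groth.Agent.LD.QC Groth.Agent.H5.Curve4 Groth.Agent.H5.IntN
  Groth.Agent.H5.DegC

variable (k : Type u) [Field k] (X : Scheme.{u}) [X.Over (Spec (CommRingCat.of k))]
  [IsProper (X ↘ Spec (CommRingCat.of k))] [IsIntegral X]

lemma fibDMap_add (I : X.IdealSheafData) {E E' : X.Modules} (φ ψ : E ⟶ E') :
    ParSh.fibDMap k X I (φ + ψ) = ParSh.fibDMap k X I φ + ParSh.fibDMap k X I ψ := by
  rw [fibDMap_eq, fibDMap_eq, fibDMap_eq, ← CL.HHmap_add]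
  congr 1
  exact Groth.Agent.H5.SD.tensorMap_add_left _ φ ψ

lemma fibDMap_smul (I : X.IdealSheafData) {E E' : X.Modules} (c : k) (φ : E ⟶ E') :
    ParSh.fibDMap k X I (c • φ) = c • ParSh.fibDMap k X I φ := by
  rw [fibDMap_eq, fibDMap_eq, ← CL.HHmap_smul]
  congr 1
  exact Groth.Agent.H5.SD.tensorMap_smul_left k _ c φ

variable {X} in
lemma isGPHom_add_smul_id (I : X.IdealSheafData) {E : X.Modules}
    (F₁ : Submodule k (ParSh.fibD X I E)) (f : E ⟶ E) (hf : ParSh.IsGPHom k X I F₁ F₁ f) (c : k) :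
    ParSh.IsGPHom k X I F₁ F₁ (f + c • 𝟙 E) := by
  unfold ParSh.IsGPHom at hf ⊢
  rintro _ ⟨x, hx, rfl⟩
  rw [fibDMap_add, fibDMap_smul, fibDMap_id, LinearMap.add_apply, LinearMap.smul_apply,
    LinearMap.id_apply]
  exact F₁.add_mem (hf ⟨x, hx, rfl⟩) (F₁.smul_mem c hx)

variable [IsAlgClosed k] [Smooth (X ↘ Spec (CommRingCat.of k))]

/-- **S18567**. -/
theorem endo_scalar (hdim : topologicalKrullDim X = 1) (I : X.IdealSheafData)
    (hD : BlowUp.IsEffCartierIdeal I) (α : ℝ) (hα0 : 0 ≤ α) (hα1 : α < 1)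
    {E : X.Modules} (n : ℕ) (hn : 0 < n) (hE : FlatMod.IsFinLocFreeOfRank n E)
    (F₁ : Submodule k (ParSh.fibD X I E))
    (hEss : ParSh.IsGPSemistable k X I α F₁ n) (hEst : ParSh.IsGPStable k X I α F₁ n)
    (f : E ⟶ E) (hf : ParSh.IsGPHom k X I F₁ F₁ f) :
    ∃ c : k, f = Ann.smulEnd E (Coh.toGlobal (X ↘ Spec (CommRingCat.of k)) c) := by
  obtain ⟨c, hc⟩ := Groth.Agent.H5.Eig.exists_eigen k X n hn hE f
  refine ⟨c, ?_⟩
  by_contra hne
  have hs : Ann.smulEnd E (Coh.toGlobal (X ↘ Spec (CommRingCat.of k)) c) = c • 𝟙 E :=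
    (KLin.smul_id E c).symm
  have hg : ParSh.IsGPHom k X I F₁ F₁
      (f - Ann.smulEnd E (Coh.toGlobal (X ↘ Spec (CommRingCat.of k)) c)) := by
    rw [hs, sub_eq_add_neg, ← neg_smul]
    exact isGPHom_add_smul_id k I F₁ f hf (-c)
  rcases zero_or_iso k X hdim I hD α hα0 hα1 n n hn hn hE hE F₁ F₁ hEss hEst hEss hEst rfl _ hg
    with h0 | ⟨hi, -⟩
  · exact hne (sub_eq_zero.mp h0)
  · exact hc hi

end Groth.Agent.H5.ParSh
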