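import Mathlib
import Groth.Prelude.Def_ParBun2
import Groth.Agent.Lib.Helper5.ParSh.B
import Groth.Agent.Lib.Helper5.ParSh.F

/-!
# Coprime rank and degree: all four stability notions agree near weight one (S18570)
-/

set_option autoImplicit false
set_option linter.style.haveILetI false
universe u
open CategoryTheory CategoryTheory.Limits AlgebraicGeometry TopologicalSpace Opposite

namespace Groth.Agent.H5.ParSh

open Groth.Agent.LD Groth.Agent.LD.QC Groth.Agent.H5.Curve4 Groth.Agent.H5.IntN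
  Groth.Agent.H5.DegC

/-- coprimality turns a non-strict slope inequality into a strict one. -/
lemma arith_coprime (DG D : ℤ) (qG a n r' : ℕ) (hr' : 0 < r') (hr'n : r' < n)
    (hcop : IsCoprime (n : ℤ) D)
    (h : ((DG : ℝ) + 1 * (qG : ℝ)) * (n : ℝ) ≤ ((D : ℝ) + 1 * ((a * n : ℕ) : ℝ)) * (r' : ℝ)) :
    ((DG : ℝ) + 1 * (qG : ℝ)) * (n : ℝ) < ((D : ℝ) + 1 * ((a * n : ℕ) : ℝ)) * (r' : ℝ) := by
  have hZ : (DG + (qG : ℤ)) * (n : ℤ) ≤ (D + ((a * n : ℕ) : ℤ)) * (r' : ℤ) := by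
    have : (((DG + (qG : ℤ)) * (n : ℤ) : ℤ) : ℝ) ≤ (((D + ((a * n : ℕ) : ℤ)) * (r' : ℤ) : ℤ) : ℝ) := by
      push_cast
      push_cast at h
      linarith
    exact_mod_cast this
  have hne : (DG + (qG : ℤ)) * (n : ℤ) ≠ (D + ((a * n : ℕ) : ℤ)) * (r' : ℤ) := by
    intro heq
    have hdvd : (n : ℤ) ∣ D * (r' : ℤ) := by
      have : D * (r' : ℤ) = (n : ℤ) * ((DG + (qG : ℤ)) - (a : ℤ) * (r' : ℤ)) := by
        push_cast at heq
        linarith
      exact ⟨_, this⟩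
    have hdvd' : (n : ℤ) ∣ (r' : ℤ) := hcop.dvd_of_dvd_mul_left hdvd
    have hle : (n : ℤ) ≤ (r' : ℤ) := Int.le_of_dvd (by exact_mod_cast hr') hdvd'
    have : n ≤ r' := by exact_mod_cast hle
    omega
  have hlt : (DG + (qG : ℤ)) * (n : ℤ) < (D + ((a * n : ℕ) : ℤ)) * (r' : ℤ) :=
    lt_of_le_of_ne hZ hne
  have : (((DG + (qG : ℤ)) * (n : ℤ) : ℤ) : ℝ) < (((D + ((a * n : ℕ) : ℤ)) * (r' : ℤ) : ℤ) : ℝ) := by
    exact_mod_cast hlt
  push_cast at this
  push_cast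
  linarith

variable (k : Type u) [Field k] (X : Scheme.{u}) [X.Over (Spec (CommRingCat.of k))]
  [IsProper (X ↘ Spec (CommRingCat.of k))] [IsIntegral X]

/-- the same-rank case of (semi)stability holds at every weight `0 ≤ β ≤ 1`. -/
theorem gpDeg_induced_le (hdim : topologicalKrullDim X = 1) (I : X.IdealSheafData)
    (hD : BlowUp.IsEffCartierIdeal I) (β : ℝ) (hβ0 : 0 ≤ β) (hβ1 : β ≤ 1)
    {G E : X.Modules} (n : ℕ) (hG : FlatMod.IsFinLocFreeOfRank n G)
    (hE : FlatMod.IsFinLocFreeOfRank n E) (F₁ : Submodule k (ParSh.fibD X I E))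
    (i : G ⟶ E) [Mono i] :
    ParSh.gpDeg k X β G (ParSh.gpInduced k X I i F₁) n ≤ ParSh.gpDeg k X β E F₁ n := by
  haveI := finite_fibD k X I (Curve.isCoh_of_rank hE)
  haveI := finite_fibD k X I (Curve.isCoh_of_rank hG)
  have hdeg := Curve.deg_le_of_mono k X hdim.le n hG hE i
  have hker := finrank_ker_fibDMap_le k X hdim I hD n hG hE i
  have h1 := finrank_comap_le (ParSh.fibDMap k X I i) F₁
  unfold ParSh.gpDeg ParSh.gpWt ParSh.gpInduced
  set q : ℕ := Module.finrank k F₁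
  set qG : ℕ := Module.finrank k (F₁.comap (ParSh.fibDMap k X I i))
  set κ : ℕ := Module.finrank k (LinearMap.ker (ParSh.fibDMap k X I i))
  have h3 : (qG : ℝ) ≤ q + κ := by exact_mod_cast h1
  have h4 : (κ : ℝ) ≤ (Curv2.deg k X E n : ℝ) - (Curv2.deg k X G n : ℝ) := by
    exact_mod_cast hker
  have h5 : (Curv2.deg k X G n : ℝ) ≤ Curv2.deg k X E n := by exact_mod_cast hdeg.1
  nlinarith

variable {X} in
/-- stable implies semistable at weights `0 ≤ β ≤ 1`. -/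
theorem semistable_of_stable (hdim : topologicalKrullDim X = 1) (I : X.IdealSheafData)
    (hD : BlowUp.IsEffCartierIdeal I) (β : ℝ) (hβ0 : 0 ≤ β) (hβ1 : β ≤ 1)
    {E : X.Modules} (n : ℕ) (hE : FlatMod.IsFinLocFreeOfRank n E)
    (F₁ : Submodule k (ParSh.fibD X I E)) (hst : ParSh.IsGPStable k X I β F₁ n) :
    ParSh.IsGPSemistable k X I β F₁ n := by
  intro G r' i hi hr' hG
  haveI := hi
  have hr'n : r' ≤ n := rank_le_of_mono X i r' n hG hE
  rcases hr'n.eq_or_lt with heq | hlt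
  · subst heq
    have h := gpDeg_induced_le k X hdim I hD β hβ0 hβ1 r' hG hE F₁ i
    exact mul_le_mul_of_nonneg_right h (Nat.cast_nonneg _)
  · exact (hst G r' i hi hr' hlt hG).le

variable {X} in
/-- with coprime rank and degree and `dim F₁` a multiple of the rank, `1`-semistable implies
`1`-stable. -/
theorem one_stable_of_one_semistable (I : X.IdealSheafData) {E : X.Modules} (n : ℕ)
    (F₁ : Submodule k (ParSh.fibD X I E))
    (hcop : IsCoprime (n : ℤ) (Curv2.deg k X E n)) (a : ℕ) (ha : Module.finrank k F₁ = a * n)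
    (hss : ParSh.IsGPSemistable k X I 1 F₁ n) : ParSh.IsGPStable k X I 1 F₁ n := by
  intro G r' i hi hr' hr'n hG
  have h := hss G r' i hi hr' hG
  unfold ParSh.gpDeg ParSh.gpWt at h ⊢
  rw [ha] at h ⊢
  exact arith_coprime _ _ _ a n r' hr' hr'n hcop h

/-- **S18570**. -/
theorem all_equiv (hdim : topologicalKrullDim X = 1) (I : X.IdealSheafData)
    (hD : BlowUp.IsEffCartierIdeal I) (d : ℕ) (hd : 0 < d)
    (hdegD : ∀ (G : X.Modules) (r : ℕ), FlatMod.IsFinLocFreeOfRank r G →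
      Module.finrank k (ParSh.fibD X I G) = r * d)
    {E : X.Modules} (n : ℕ) (hn : 2 ≤ n) (hE : FlatMod.IsFinLocFreeOfRank n E)
    (F₁ : Submodule k (ParSh.fibD X I E))
    (α : ℝ) (hα0 : 0 ≤ α) (hα1 : α < 1)
    (hα : 1 - 1 / ((d : ℝ) * (n : ℝ) * ((n : ℝ) - 1)) < α)
    (hcop : IsCoprime (n : ℤ) (Curv2.deg k X E n)) (a : ℕ) (ha : Module.finrank k F₁ = a * n) :
    (ParSh.IsGPSemistable k X I α F₁ n ↔ ParSh.IsGPSemistable k X I 1 F₁ n) ∧
      (ParSh.IsGPStable k X I α F₁ n ↔ ParSh.IsGPSemistable k X I 1 F₁ n) ∧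
      (ParSh.IsGPStable k X I 1 F₁ n ↔ ParSh.IsGPSemistable k X I 1 F₁ n) := by
  have h1 : ParSh.IsGPSemistable k X I α F₁ n → ParSh.IsGPSemistable k X I 1 F₁ n :=
    one_semistable_of_semistable k X I d hd hdegD n hn hE F₁ α hα1 hα
  have h2 : ParSh.IsGPSemistable k X I 1 F₁ n → ParSh.IsGPStable k X I 1 F₁ n :=
    one_stable_of_one_semistable k I n F₁ hcop a ha
  have h3 : ParSh.IsGPStable k X I 1 F₁ n → ParSh.IsGPStable k X I α F₁ n :=
    stable_of_one_stable k X I d hd hdegD n hn hE F₁ α hα1 hα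
  have h4 : ParSh.IsGPStable k X I α F₁ n → ParSh.IsGPSemistable k X I α F₁ n :=
    semistable_of_stable k hdim I hD α hα0 hα1.le n hE F₁
  have h5 : ParSh.IsGPStable k X I 1 F₁ n → ParSh.IsGPSemistable k X I 1 F₁ n :=
    semistable_of_stable k hdim I hD 1 zero_le_one le_rfl n hE F₁
  exact ⟨⟨h1, fun h => h4 (h3 (h2 h))⟩, ⟨fun h => h1 (h4 h), fun h => h3 (h2 h)⟩, ⟨h5, h2⟩⟩

end Groth.Agent.H5.ParSh
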